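import Groth.Agent.StrictSplitLib.Main
import Groth.Agent.Henselization.Basic
import Groth.Agent.Hensel.Local
import Groth.Agent.CurveP1Lib.DiscrMap
import Groth.Agent.S2195

/-!
# The normalisation of a normal domain at a point with as many geometric points as the degree
-/

set_option autoImplicit false
set_option backward.isDefEq.respectTransparency false
set_option linter.style.haveILetI false
set_option linter.unusedSectionVars false
set_option maxHeartbeats 1000000
set_option synthInstance.maxHeartbeats 100000

universe u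

open TensorProduct IsLocalRing
open scoped nonZeroDivisors

noncomputable section

namespace Groth.Agent.NormEtLib

/-- Homomorphisms with the same kernel into a field agreeing on a separably closed residue field are equal. -/
theorem eq_of_ker_eq {R T Ω : Type u} [CommRing R] [IsLocalRing R] [CommRing T] [Algebra R T] [Algebra.IsIntegral R T]
    [IsSepClosed (ResidueField R)] [Field Ω] (h₁ h₂ : T →+* Ω) (ω : ResidueField R →+* Ω)
    (e₁ : h₁.comp (algebraMap R T) = ω.comp (residue R)) (e₂ : h₂.comp (algebraMap R T) = ω.comp (residue R))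
    (hk : RingHom.ker h₁ = RingHom.ker h₂) : h₁ = h₂ := by
  let Q := RingHom.ker h₁
  haveI : Q.IsPrime := RingHom.ker_isPrime _
  have hQR : Q.comap (algebraMap R T) = maximalIdeal R := by
    ext r
    show h₁ (algebraMap R T r) = 0 ↔ _
    rw [show h₁ (algebraMap R T r) = ω (residue R r) from congr($e₁ r), map_eq_zero_iff _ ω.injective,
      IsLocalRing.residue_eq_zero_iff]
  haveI : Q.IsMaximal := Ideal.isMaximal_of_isIntegral_of_isMaximal_comap (R := R) Q (hQR ▸ inferInstance)
  letI : Field (T ⧸ Q) := Ideal.Quotient.field Q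
  let f : ResidueField R →+* T ⧸ Q := Ideal.Quotient.lift (maximalIdeal R) ((Ideal.Quotient.mk Q).comp (algebraMap R T))
    fun r hr => Ideal.Quotient.eq_zero_iff_mem.2 (by rw [← hQR] at hr; exact hr)
  letI : Algebra (ResidueField R) (T ⧸ Q) := f.toAlgebra
  haveI : IsScalarTower R (ResidueField R) (T ⧸ Q) := IsScalarTower.of_algebraMap_eq fun _ => rfl
  haveI : Algebra.IsIntegral R (T ⧸ Q) := Algebra.IsIntegral.of_surjective (Ideal.Quotient.mkₐ R Q) Ideal.Quotient.mk_surjective
  haveI : Algebra.IsIntegral (ResidueField R) (T ⧸ Q) := Algebra.IsIntegral.tower_top (R := R)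
  haveI : IsPurelyInseparable (ResidueField R) (T ⧸ Q) := inferInstance
  letI : Algebra (ResidueField R) Ω := ω.toAlgebra
  let l₁ : T ⧸ Q →+* Ω := Ideal.Quotient.lift Q h₁ fun x hx => hx
  let l₂ : T ⧸ Q →+* Ω := Ideal.Quotient.lift Q h₂ fun x hx => (show x ∈ RingHom.ker h₂ from hk ▸ hx)
  let a₁ : T ⧸ Q →ₐ[ResidueField R] Ω :=
    { l₁ with commutes' := fun z => by obtain ⟨r, rfl⟩ := IsLocalRing.residue_surjective z; exact congr($e₁ r) }
  let a₂ : T ⧸ Q →ₐ[ResidueField R] Ω :=
    { l₂ with commutes' := fun z => by obtain ⟨r, rfl⟩ := IsLocalRing.residue_surjective z; exact congr($e₂ r) }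
  have : a₁ = a₂ := Subsingleton.elim _ _
  exact RingHom.ext fun x => congr($this (Ideal.Quotient.mk Q x))

/-- As many nonzero orthogonal idempotents as the dimension split the algebra. -/
theorem nonempty_algEquiv_pi {F W : Type u} [Field F] [CommRing W] [Algebra F W] [FiniteDimensional F W] {ι : Type u}
    [Fintype ι] (hcard : Fintype.card ι = Module.finrank F W) (e : ι → W) (hne : ∀ i, e i ≠ 0)
    (hid : ∀ i, e i * e i = e i) (horth : ∀ i j, i ≠ j → e i * e j = 0) :
    Nonempty (W ≃ₐ[F] (ι → F)) := by
  classical
  have hli : LinearIndependent F e := by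
    rw [Fintype.linearIndependent_iff]
    intro c hc j
    have h1 := congrArg (e j * ·) hc
    simp only [Finset.mul_sum, mul_smul_comm, mul_zero] at h1
    rw [Finset.sum_eq_single j (fun i _ hij => by rw [horth j i (Ne.symm hij), smul_zero])
      (fun h => absurd (Finset.mem_univ j) h), hid] at h1
    exact (smul_eq_zero.1 h1).resolve_right (hne j)
  let b : Module.Basis ι F W := Module.Basis.mk hli (hli.span_eq_top_of_card_eq_finrank' hcard).ge
  have hb : ∀ i, b i = e i := fun i => Module.Basis.mk_apply _ _ i
  have hmul : ∀ x y : W, b.equivFun (x * y) = b.equivFun x * b.equivFun y := by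
    intro x y
    have h : x * y = b.equivFun.symm (b.equivFun x * b.equivFun y) := by
      rw [Module.Basis.equivFun_symm_apply]
      conv_lhs => rw [← b.sum_equivFun x, ← b.sum_equivFun y, Finset.sum_mul]
      refine Finset.sum_congr rfl fun i _ => ?_
      rw [Finset.mul_sum, Finset.sum_eq_single i
        (fun j _ hji => by rw [smul_mul_smul_comm, hb, hb, horth i j (Ne.symm hji), smul_zero])
        (fun h => absurd (Finset.mem_univ i) h), smul_mul_smul_comm, hb, hid]
      rfl
    rw [h, LinearEquiv.apply_symm_apply]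
  exact ⟨AlgEquiv.ofLinearEquiv b.equivFun (by
    have hone : (1 : W) = b.equivFun.symm 1 := by
      have h1 := hmul (b.equivFun.symm 1) 1
      rw [mul_one, LinearEquiv.apply_symm_apply, one_mul] at h1
      exact b.equivFun.injective (h1.symm.trans (b.equivFun.apply_symm_apply 1).symm)
    rw [hone, LinearEquiv.apply_symm_apply]) hmul⟩

variable {A₀ : Type u} [CommRing A₀] [IsDomain A₀] [IsIntegrallyClosed A₀] {K L : Type u} [Field K] [Field L]
  [Algebra A₀ K] [IsFractionRing A₀ K] [Algebra K L] [FiniteDimensional K L] [Algebra A₀ L] [IsScalarTower A₀ K L]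
  {Ω : Type u} [Field Ω] [IsAlgClosed Ω]

/-- At a point with as many geometric points above it as the degree, the integral closure over the local ring is
finite étale. -/
theorem finite_etale_integralClosure_local (χ : A₀ →+* Ω)
    (h : ∃ ψ : Fin (Module.finrank K L) → integralClosure A₀ L →+* Ω,
      Function.Injective ψ ∧ ∀ j a, ψ j (algebraMap A₀ _ a) = χ a)
    (p : Ideal A₀) [p.IsPrime] (hp : RingHom.ker χ = p)
    (A : Type u) [CommRing A] [Algebra A₀ A] [IsLocalization.AtPrime A p]
    [IsDomain A] [IsLocalRing A] [IsIntegrallyClosed A]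
    [Algebra A K] [IsFractionRing A K] [IsScalarTower A₀ A K] [Algebra A L] [IsScalarTower A K L] :
    Module.Finite A (integralClosure A L) ∧ Algebra.Etale A (integralClosure A L) := by
  classical
  subst hp
  obtain ⟨ψ, hψinj, hψ⟩ := h
  obtain ⟨R, _, _, _, _, hR⟩ := Henselization.exists_strictHenselization (R := A)
  haveI := hR
  haveI : HenselianLocalRing R := Hensel.IsStrictHenselization.henselian (R := A)
  haveI : IsSepClosure (ResidueField A) (ResidueField R) := Hensel.IsStrictHenselization.isSepClosure
  haveI : IsSepClosed (ResidueField R) := IsSepClosure.sep_closed (ResidueField A)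
  haveI : IsDomain R := (SHInter.isDomain_sh (A := A) (S := R)).1
  haveI : Module.Flat A R := SHInter.flat_sh
  -- the homomorphism of the residue field
  have hu : ∀ s : (RingHom.ker χ).primeCompl, IsUnit (χ s) := fun s => IsUnit.mk0 _ s.2
  let χA : A →+* Ω := IsLocalization.lift (M := (RingHom.ker χ).primeCompl) hu
  have hχA : ∀ a, χA (algebraMap A₀ A a) = χ a := fun a => IsLocalization.lift_eq hu a
  have hker : ∀ a ∈ maximalIdeal A, χA a = 0 := fun a ha => by
    obtain ⟨x, s, rfl⟩ := IsLocalization.exists_mk'_eq (RingHom.ker χ).primeCompl a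
    have hx : χ x = 0 := (IsLocalization.AtPrime.mk'_mem_maximal_iff A (RingHom.ker χ) x s).1 ha
    have h1 := congrArg χA (IsLocalization.mk'_spec A x s)
    rw [map_mul, hχA, hχA, hx] at h1
    exact (mul_eq_zero.1 h1).resolve_right (hu s).ne_zero
  letI : Algebra (ResidueField A) Ω := (Ideal.Quotient.lift (maximalIdeal A) χA hker).toAlgebra
  haveI : Algebra.IsAlgebraic (ResidueField A) (ResidueField R) := by
    haveI := IsSepClosure.separable (k := ResidueField A) (K := ResidueField R)
    infer_instance
  haveI : Module.IsTorsionFree (ResidueField A) Ω :=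
    Module.isTorsionFree_iff_algebraMap_injective.2 (algebraMap (ResidueField A) Ω).injective
  let ω : ResidueField R →ₐ[ResidueField A] Ω := IsAlgClosed.lift
  letI : Algebra A₀ R := ((algebraMap A R).comp (algebraMap A₀ A)).toAlgebra
  haveI : IsScalarTower A₀ A R := IsScalarTower.of_algebraMap_eq' rfl
  haveI : Module.Flat A₀ A := IsLocalization.flat A (RingHom.ker χ).primeCompl
  haveI : Module.Flat A₀ R := Module.Flat.trans A₀ A R
  letI : Algebra A₀ Ω := χ.toAlgebra
  have hωA : ∀ a : A₀, ω (residue R (algebraMap A₀ R a)) = χ a := fun a => by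
    show ω (residue R (algebraMap A R (algebraMap A₀ A a))) = _
    rw [show residue R (algebraMap A R (algebraMap A₀ A a)) =
      algebraMap (ResidueField A) (ResidueField R) (residue A (algebraMap A₀ A a)) from rfl, AlgHom.commutes]
    exact hχA a
  let aR : R →ₐ[A₀] Ω := { (ω.toRingHom.comp (residue R)) with commutes' := hωA }
  -- a finite subalgebra containing a basis and separating the points
  haveI : Algebra.IsAlgebraic A₀ L := IsFractionRing.comap_isAlgebraic_iff (K := K).2 inferInstance
  have hbasis : ∀ i, ∃ m : A₀, m ≠ 0 ∧ IsIntegral A₀ (m • Module.finBasis K L i) := fun i => by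
    obtain ⟨⟨m, hm⟩, h⟩ := IsIntegral.exists_multiple_integral_of_isLocalization A₀⁰ (Module.finBasis K L i)
      (Algebra.IsIntegral.isIntegral (R := K) _)
    exact ⟨m, nonZeroDivisors.ne_zero hm, h⟩
  choose m hm0 hmi using hbasis
  let b : Module.Basis (Fin (Module.finrank K L)) K L := (Module.finBasis K L).unitsSMul fun i =>
    Units.mk0 (algebraMap A₀ K (m i)) ((map_ne_zero_iff _ (IsFractionRing.injective A₀ K)).2 (hm0 i))
  have hb : ∀ i, IsIntegral A₀ (b i) := fun i => by
    rw [Module.Basis.unitsSMul_apply, Units.smul_def, Units.val_mk0, algebraMap_smul]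
    exact hmi i
  have hsep : ∀ jk : Fin (Module.finrank K L) × Fin (Module.finrank K L), ∃ x : integralClosure A₀ L,
      jk.1 ≠ jk.2 → ψ jk.1 x ≠ ψ jk.2 x := fun jk => by
    by_cases hjk : jk.1 = jk.2
    · exact ⟨0, fun h => absurd hjk h⟩
    · obtain ⟨x, hx⟩ := not_forall.1 fun hall => hjk (hψinj (RingHom.ext hall))
      exact ⟨x, fun _ => hx⟩
  choose xs hxs using hsep
  let s : Set L := Set.range b ∪ Set.range fun jk => (xs jk : L)
  let B := Algebra.adjoin A₀ s
  have hsfin : s.Finite := (Set.finite_range _).union (Set.finite_range _)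
  have hsint : ∀ x ∈ s, IsIntegral A₀ x := by
    rintro x (⟨i, rfl⟩ | ⟨jk, rfl⟩)
    · exact hb i
    · exact (xs jk).2
  haveI : Module.Finite A₀ B := Module.Finite.iff_fg.2 (fg_adjoin_of_finite hsfin hsint)
  have hBle : B ≤ integralClosure A₀ L := Algebra.adjoin_le hsint
  let bB : Fin (Module.finrank K L) → B := fun i => ⟨b i, Algebra.subset_adjoin (Or.inl ⟨i, rfl⟩)⟩
  -- the comparison with the split algebra
  let LR := FractionRing R
  haveI : FaithfulSMul A R := (faithfulSMul_iff_algebraMap_injective A R).2 (by
    haveI : Module.FaithfullyFlat A R := Module.FaithfullyFlat.of_flat_of_isLocalHom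
    exact FaithfulSMul.algebraMap_injective A R)
  have hA₀R : Function.Injective (algebraMap A₀ R) := (FaithfulSMul.algebraMap_injective A R).comp
    (IsLocalization.injective A (RingHom.ker χ).primeCompl_le_nonZeroDivisors)
  have hinjA : Function.Injective (algebraMap A LR) :=
    (IsFractionRing.injective R LR).comp (FaithfulSMul.algebraMap_injective A R)
  letI : Algebra K LR := (IsFractionRing.lift (A := A) hinjA).toAlgebra
  haveI : IsScalarTower A K LR := IsScalarTower.of_algebraMap_eq fun a => (IsFractionRing.lift_algebraMap hinjA a).symm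
  haveI : IsScalarTower A₀ K LR := IsScalarTower.of_algebraMap_eq fun a => by
    rw [IsScalarTower.algebraMap_apply A₀ A K, ← IsScalarTower.algebraMap_apply A K LR,
      IsScalarTower.algebraMap_apply A₀ R LR, IsScalarTower.algebraMap_apply A R LR]
    rfl
  let W := LR ⊗[K] L
  let θ : R ⊗[A₀] B →ₐ[R] W := Algebra.TensorProduct.lift (Algebra.ofId R W)
    (((Algebra.TensorProduct.includeRight : L →ₐ[K] W).restrictScalars A₀).comp B.val) fun _ _ => Commute.all _ _
  have hθ : ∀ (r : R) (x : B), θ (r ⊗ₜ x) = algebraMap R LR r ⊗ₜ[K] (x : L) := fun r x => by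
    show algebraMap R W r * ((1 : LR) ⊗ₜ[K] (x : L)) = _
    rw [IsScalarTower.algebraMap_apply R LR W, Algebra.TensorProduct.algebraMap_apply,
      Algebra.TensorProduct.tmul_mul_tmul]
    simp
  have hcoeff : ∀ z : R ⊗[A₀] B, ∃ a : A₀, a ≠ 0 ∧ ∃ c : Fin (Module.finrank K L) → R,
      a • z = ∑ i, c i ⊗ₜ[A₀] bB i := by
    intro z
    induction z using TensorProduct.induction_on with
    | zero => exact ⟨1, one_ne_zero, 0, by simp⟩
    | tmul r x =>
      obtain ⟨⟨a, ha⟩, h⟩ := IsLocalization.exist_integer_multiples_of_finite A₀⁰ (fun i => b.repr (x : L) i)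
      choose n hn using h
      refine ⟨a, nonZeroDivisors.ne_zero ha, fun i => n i • r, ?_⟩
      have hx : a • x = ∑ i, n i • bB i := Subtype.ext (by
        rw [Subalgebra.coe_smul]
        conv_lhs => rw [← b.sum_repr (x : L)]
        rw [Finset.smul_sum, AddSubmonoidClass.coe_finsetSum]
        refine Finset.sum_congr rfl fun i _ => ?_
        rw [Subalgebra.coe_smul]
        show a • b.repr (x : L) i • b i = n i • b i
        rw [← algebraMap_smul K (n i) (b i), hn i, ← smul_assoc])
      rw [← TensorProduct.tmul_smul, hx, TensorProduct.tmul_sum]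
      exact Finset.sum_congr rfl fun i _ => by rw [TensorProduct.tmul_smul, TensorProduct.smul_tmul']
    | add y z hy hz =>
      obtain ⟨a, ha, c, hc⟩ := hy
      obtain ⟨a', ha', c', hc'⟩ := hz
      refine ⟨a * a', mul_ne_zero ha ha', fun i => a' • c i + a • c' i, ?_⟩
      simp only [TensorProduct.add_tmul, Finset.sum_add_distrib, ← TensorProduct.smul_tmul', ← Finset.smul_sum, ← hc, ← hc']
      rw [smul_add, mul_comm a a', mul_smul, mul_comm a' a, mul_smul]
  have hθinj : Function.Injective θ := (injective_iff_map_eq_zero θ).2 fun z hz => by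
    obtain ⟨a, ha, c, hc⟩ := hcoeff z
    have h1 := congrArg θ hc
    rw [AlgHom.map_smul_of_tower, hz, smul_zero, map_sum] at h1
    have hc0 : ∀ i, c i = 0 := fun i => by
      have h2 : ∑ i, algebraMap R LR (c i) • (b.baseChange LR) i = 0 := by
        rw [h1]
        refine Finset.sum_congr rfl fun i _ => ?_
        rw [hθ, Module.Basis.baseChange_apply, TensorProduct.smul_tmul', smul_eq_mul, mul_one]
      exact IsFractionRing.injective R LR
        ((Fintype.linearIndependent_iff.1 (b.baseChange LR).linearIndependent _ h2 i).trans (map_zero _).symm)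
    have h3 : a • z = 0 := hc.trans (Finset.sum_eq_zero fun i _ => by rw [hc0, TensorProduct.zero_tmul])
    have hreg : IsSMulRegular B a := fun x y hxy => Subtype.ext (by
      have h4 : algebraMap A₀ L a * (x : L) = algebraMap A₀ L a * y := by
        simpa [Algebra.smul_def] using congrArg (Subtype.val : B → L) hxy
      refine mul_left_cancel₀ ?_ h4
      rw [IsScalarTower.algebraMap_apply A₀ K L]
      exact (map_ne_zero_iff _ (algebraMap K L).injective).2 ((map_ne_zero_iff _ (IsFractionRing.injective A₀ K)).2 ha))
    exact (hreg.lTensor R) (h3.trans (smul_zero a).symm)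
  -- the points of the finite algebra over the strict henselization
  let ΨB : Fin (Module.finrank K L) → B →ₐ[A₀] Ω := fun j =>
    { (ψ j).comp (Subalgebra.inclusion hBle).toRingHom with commutes' := fun a => hψ j a }
  let Ψ : Fin (Module.finrank K L) → R ⊗[A₀] B →ₐ[A₀] Ω := fun j =>
    Algebra.TensorProduct.lift aR (ΨB j) fun _ _ => Commute.all _ _
  have hΨR : ∀ j, (Ψ j).toRingHom.comp (algebraMap R (R ⊗[A₀] B)) = ω.toRingHom.comp (residue R) := fun j =>
    RingHom.ext fun r => by
      show Ψ j (r ⊗ₜ 1) = _
      rw [Algebra.TensorProduct.lift_tmul, map_one, mul_one]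
      rfl
  have hΨinj : ∀ j k, (Ψ j).toRingHom = (Ψ k).toRingHom → j = k := fun j k h => by
    by_contra hjk
    refine hxs (j, k) hjk ?_
    have h1 := congr($h ((1 : R) ⊗ₜ[A₀] (⟨xs (j, k), Algebra.subset_adjoin (Or.inr ⟨(j, k), rfl⟩)⟩ : B)))
    change Ψ j _ = Ψ k _ at h1
    rw [Algebra.TensorProduct.lift_tmul, Algebra.TensorProduct.lift_tmul, map_one, one_mul, one_mul] at h1
    exact h1
  obtain ⟨J, _, C, _, hloc, ⟨e⟩⟩ := Hensel.exists_pi_local_of_henselian R (R ⊗[A₀] B)
  haveI := hloc
  let ε : J → R ⊗[A₀] B := fun k => e.symm (Pi.single k 1)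
  have hεid : ∀ k, ε k * ε k = ε k := fun k => e.injective (by
    simp only [ε, map_mul, RingEquiv.apply_symm_apply, ← Pi.single_mul, mul_one])
  have hεorth : ∀ k k', k ≠ k' → ε k * ε k' = 0 := fun k k' h => e.injective (by
    simp only [ε, map_mul, RingEquiv.apply_symm_apply, map_zero]
    funext i
    rcases eq_or_ne i k with rfl | hi
    · simp [h]
    · simp [hi])
  have hk : ∀ j, ∃ k, Ψ j (ε k) = 1 := fun j => by
    by_contra hall
    push Not at hall
    have h0 : ∀ k, Ψ j (ε k) = 0 := fun k => by
      have h1 : Ψ j (ε k) * (Ψ j (ε k) - 1) = 0 := by rw [mul_sub, mul_one, ← map_mul, hεid, sub_self]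
      exact (mul_eq_zero.1 h1).resolve_right (sub_ne_zero.2 (hall k))
    have h1 : e.symm (∑ k, Pi.single k 1) = 1 := by
      rw [Finset.univ_sum_single (fun k => (1 : C k))]
      exact map_one e.symm
    have := congrArg (Ψ j) h1
    rw [map_sum, map_sum, Finset.sum_eq_zero fun k _ => h0 k, map_one] at this
    exact zero_ne_one this
  choose k hk using hk
  have hkinj : Function.Injective k := fun j j' hjj' => by
    refine hΨinj j j' (eq_of_ker_eq _ _ ω.toRingHom (hΨR j) (hΨR j') ?_)
    let π : R ⊗[A₀] B →+* C (k j) := (Pi.evalRingHom C (k j)).comp e.toRingHom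
    have hπ : Function.Surjective π := fun c => ⟨e.symm (Pi.single (k j) c), by
      show e (e.symm (Pi.single (k j) c)) (k j) = c
      rw [RingEquiv.apply_symm_apply, Pi.single_eq_same]⟩
    have key : ∀ i, Ψ i (ε (k j)) = 1 → RingHom.ker (Ψ i).toRingHom = (maximalIdeal (C (k j))).comap π := by
      intro i hi
      let Q := RingHom.ker (Ψ i).toRingHom
      haveI : Q.IsPrime := RingHom.ker_isPrime _
      haveI : Q.IsMaximal := by
        refine Ideal.isMaximal_of_isIntegral_of_isMaximal_comap (R := R) Q ?_
        have : Q.comap (algebraMap R (R ⊗[A₀] B)) = maximalIdeal R := by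
          ext r
          show (Ψ i).toRingHom.comp (algebraMap R (R ⊗[A₀] B)) r = 0 ↔ _
          rw [hΨR i, RingHom.comp_apply, map_eq_zero_iff _ ω.toRingHom.injective, IsLocalRing.residue_eq_zero_iff]
        rw [this]; infer_instance
      have hle : RingHom.ker π ≤ Q := fun x hx => by
        have h1 : ε (k j) * x = 0 := e.injective (by
          simp only [ε, map_mul, RingEquiv.apply_symm_apply, map_zero]
          funext l
          rcases eq_or_ne l (k j) with rfl | hl
          · simpa [π] using hx
          · simp [Pi.single_eq_of_ne hl])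
        have h2 := congrArg (Ψ i) h1
        rw [map_mul, hi, one_mul, map_zero] at h2
        exact h2
      haveI : ((maximalIdeal (C (k j))).comap π).IsMaximal := Ideal.comap_isMaximal_of_surjective π hπ
      have hmap : Q.map π ≠ ⊤ := fun h => (inferInstance : Q.IsMaximal).ne_top (by
        rw [← sup_eq_left.2 hle, RingHom.ker_eq_comap_bot, ← Ideal.comap_map_of_surjective π hπ, h, Ideal.comap_top])
      exact (inferInstance : Q.IsMaximal).eq_of_le (Ideal.IsPrime.ne_top inferInstance)
        (Ideal.map_le_iff_le_comap.1 (IsLocalRing.le_maximalIdeal hmap))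
    rw [key j (hk j), key j' (hjj' ▸ hk j')]
  have hn : Fintype.card (ULift.{u} (Fin (Module.finrank K L))) = Module.finrank LR W := by
    rw [Fintype.card_ulift, Fintype.card_fin, Module.finrank_baseChange]
  obtain ⟨Φ⟩ := nonempty_algEquiv_pi hn (fun j => θ (ε (k j.down)))
    (fun j h => by
      have h1 : ε (k j.down) = 0 := hθinj (h.trans (map_zero θ).symm)
      have := congrArg (Ψ j.down) h1
      rw [hk, map_zero] at this
      exact one_ne_zero this)
    (fun j => by rw [← map_mul, hεid])
    (fun i j hij => by
      rw [← map_mul, hεorth _ _ (fun h => hij (ULift.ext _ _ (hkinj h))), map_zero])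
  haveI : IsScalarTower A R LR := inferInstance
  exact StrictSplitLib.finite_etale_integralClosure (A := A) (R := R) Φ

/-- The integral closure is finite étale over a principal open around the point. -/
theorem exists_finite_etale_away (χ : A₀ →+* Ω)
    (h : ∃ ψ : Fin (Module.finrank K L) → integralClosure A₀ L →+* Ω,
      Function.Injective ψ ∧ ∀ j a, ψ j (algebraMap A₀ _ a) = χ a) :
    ∃ d : A₀, χ d ≠ 0 ∧ ∀ (O : Type u) [CommRing O] [Algebra A₀ O] [IsLocalization.Away d O] [Algebra O K]
      [IsScalarTower A₀ O K] [Algebra O L] [IsScalarTower O K L],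
      Module.Finite O (integralClosure O L) ∧ Algebra.Etale O (integralClosure O L) := by
  classical
  haveI : (RingHom.ker χ).IsPrime := RingHom.ker_isPrime _
  let p := RingHom.ker χ
  let A := Localization.AtPrime p
  haveI : IsDomain A := IsLocalization.isDomain_of_le_nonZeroDivisors A p.primeCompl_le_nonZeroDivisors
  haveI : IsIntegrallyClosed A := isIntegrallyClosed_of_isLocalization A p.primeCompl p.primeCompl_le_nonZeroDivisors
  have hup : ∀ s : p.primeCompl, IsUnit (algebraMap A₀ K s) := fun s =>
    IsUnit.mk0 _ ((map_ne_zero_iff _ (IsFractionRing.injective A₀ K)).2 fun h => s.2 (h ▸ p.zero_mem))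
  letI : Algebra A K := (IsLocalization.lift (M := p.primeCompl) hup).toAlgebra
  haveI : IsScalarTower A₀ A K := IsScalarTower.of_algebraMap_eq fun a => (IsLocalization.lift_eq hup a).symm
  haveI : IsFractionRing A K := IsFractionRing.isFractionRing_of_isDomain_of_isLocalization p.primeCompl A K
  letI : Algebra A L := ((algebraMap K L).comp (algebraMap A K)).toAlgebra
  haveI : IsScalarTower A K L := IsScalarTower.of_algebraMap_eq' rfl
  haveI : IsScalarTower A₀ A L := IsScalarTower.of_algebraMap_eq fun a => by
    rw [IsScalarTower.algebraMap_apply A K L, ← IsScalarTower.algebraMap_apply A₀ A K, ← IsScalarTower.algebraMap_apply]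
  obtain ⟨hfin, het⟩ := finite_etale_integralClosure_local χ h p rfl A
  haveI := hfin
  haveI := het
  let A' := integralClosure A L
  haveI : Module.Free A A' := Module.free_of_flat_of_isLocalRing
  haveI : Algebra.IsAlgebraic K L := Algebra.IsAlgebraic.of_finite K L
  let θ : K ⊗[A] A' ≃ₐ[K] L :=
    AlgEquiv.ofBijective _ (StrictSplitLib.bijective_lift_integralClosure (A := A) (K := K) (E := L))
  let b' := Module.Free.chooseBasis A A'
  let bK : Module.Basis (Module.Free.ChooseBasisIndex A A') K L := (b'.baseChange K).map θ.toLinearEquiv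
  have hbK : ∀ i, bK i = (b' i : L) := fun i => by
    rw [Module.Basis.map_apply, Module.Basis.baseChange_apply]
    show Algebra.TensorProduct.lift (Algebra.ofId K L) (integralClosure A L).val (fun _ _ => Commute.all _ _)
      ((1 : K) ⊗ₜ[A] b' i) = _
    rw [Algebra.TensorProduct.lift_tmul, map_one, one_mul]
    rfl
  -- clear denominators
  have hm : ∀ i, ∃ m ∈ p.primeCompl, IsIntegral A₀ ((m : A₀) • (b' i : L)) := fun i => by
    obtain ⟨⟨m, hm⟩, h⟩ := IsIntegral.exists_multiple_integral_of_isLocalization p.primeCompl (b' i : L) (b' i).2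
    exact ⟨m, hm, h⟩
  choose m hmp hmi using hm
  let bA : Module.Basis (Module.Free.ChooseBasisIndex A A') A A' :=
    b'.unitsSMul fun i => (IsLocalization.map_units A (⟨m i, hmp i⟩ : p.primeCompl)).unit
  let b : Module.Basis (Module.Free.ChooseBasisIndex A A') K L := bK.unitsSMul fun i => (hup ⟨m i, hmp i⟩).unit
  have hb : ∀ i, b i = (m i) • (b' i : L) := fun i => by
    rw [Module.Basis.unitsSMul_apply, Units.smul_def, IsUnit.unit_spec, hbK, algebraMap_smul]
  have hbA : ∀ i, ((bA i : A') : L) = b i := fun i => by
    rw [hb, Module.Basis.unitsSMul_apply, Units.smul_def, IsUnit.unit_spec, algebraMap_smul, Subalgebra.coe_smul]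
  have hbi : ∀ i, IsIntegral A₀ (b i) := fun i => by rw [hb]; exact hmi i
  have hdA : IsUnit (Algebra.discr A bA) := CurveP1Lib.isUnit_discr_of_etale bA
  have hD : Algebra.discr K b = algebraMap A K (Algebra.discr A bA) :=
    CurveP1Lib.discr_map (algebraMap A K) A'.val.toRingHom
      (fun a => IsScalarTower.algebraMap_apply A K L a) bA b hbA
  obtain ⟨d, hd⟩ := IsIntegrallyClosed.isIntegral_iff.1 (Algebra.discr_isIntegral K (R := A₀) hbi)
  have hdp : χ d ≠ 0 := fun h0 => by
    have h1 : algebraMap A₀ A d = Algebra.discr A bA := IsFractionRing.injective A K (by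
      rw [← hD, ← IsScalarTower.algebraMap_apply, hd])
    exact (IsLocalization.AtPrime.isUnit_to_map_iff A p d).1 (h1 ▸ hdA) h0
  refine ⟨d, hdp, fun O _ _ _ _ _ _ _ => ?_⟩
  have hd0 : d ∈ A₀⁰ := mem_nonZeroDivisors_of_ne_zero fun h => hdp (h ▸ map_zero χ)
  have hle : Submonoid.powers d ≤ A₀⁰ := Submonoid.powers_le.2 hd0
  haveI : IsDomain O := IsLocalization.isDomain_of_le_nonZeroDivisors O hle
  haveI : IsIntegrallyClosed O := isIntegrallyClosed_of_isLocalization O (Submonoid.powers d) hle
  haveI : IsFractionRing O K := IsFractionRing.isFractionRing_of_isDomain_of_isLocalization (Submonoid.powers d) O K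
  haveI : IsScalarTower A₀ O L := IsScalarTower.of_algebraMap_eq fun a => by
    rw [IsScalarTower.algebraMap_apply O K L, ← IsScalarTower.algebraMap_apply A₀ O K, ← IsScalarTower.algebraMap_apply]
  let M := integralClosure O L
  let v : Module.Free.ChooseBasisIndex A A' → M := fun i => ⟨b i, (hbi i).tower_top⟩
  have hint : ∀ z : L, IsIntegral O z → ∀ i, ∃ c : O, algebraMap O K c = b.repr z i := by
    intro z hz
    have htr : ∀ i, ∃ c : O, algebraMap O K c = Algebra.trace K L (z * b i) := fun i =>
      IsIntegrallyClosed.isIntegral_iff.1 (Algebra.isIntegral_trace (hz.mul (hbi i).tower_top))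
    choose c hc using htr
    have hpr : ∀ i j, ∃ c : O, algebraMap O K c = Algebra.traceMatrix K b i j := fun i j => by
      rw [Algebra.traceMatrix_apply, Algebra.traceForm_apply]
      exact IsIntegrallyClosed.isIntegral_iff.1 (Algebra.isIntegral_trace ((hbi i).tower_top.mul (hbi j).tower_top))
    choose T hT using hpr
    have hdet : IsUnit (Matrix.of T).det := by
      have h1 : algebraMap O K (Matrix.of T).det = algebraMap O K (algebraMap A₀ O d) := by
        rw [RingHom.map_det, ← IsScalarTower.algebraMap_apply, hd, Algebra.discr_def]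
        congr 1
        ext i j
        exact hT i j
      rw [IsFractionRing.injective O K h1]
      exact IsLocalization.Away.algebraMap_isUnit d
    intro i
    refine ⟨((Matrix.of T)⁻¹.mulVec c) i, ?_⟩
    have hmat : ((Matrix.of T).map (algebraMap O K)) = Algebra.traceMatrix K b := by ext i j; exact hT i j
    have hvec : (Algebra.traceMatrix K b).mulVec (fun j => b.repr z j) = fun i => Algebra.trace K L (z * b i) := by
      funext i
      conv_rhs => rw [← b.sum_repr z, Finset.sum_mul, map_sum]
      refine Finset.sum_congr rfl fun j _ => ?_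
      show Algebra.traceMatrix K b i j * b.repr z j = _
      rw [Algebra.traceMatrix_apply, Algebra.traceForm_apply, smul_mul_assoc, map_smul, smul_eq_mul,
        mul_comm (b j) (b i), mul_comm]
    have hsol : (fun j => b.repr z j) = fun j => algebraMap O K (((Matrix.of T)⁻¹.mulVec c) j) := by
      have hu : IsUnit (Algebra.traceMatrix K b).det := by
        rw [← hmat]
        show IsUnit ((algebraMap O K).mapMatrix (Matrix.of T)).det
        rw [← RingHom.map_det]
        exact hdet.map _
      refine (Matrix.mulVec_injective_iff_isUnit.2 ((Matrix.isUnit_iff_isUnit_det _).2 hu)) ?_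
      rw [hvec]
      funext i
      rw [← hc i]
      have h2 : (Matrix.of T).mulVec ((Matrix.of T)⁻¹.mulVec c) = c := by
        rw [Matrix.mulVec_mulVec, Matrix.mul_nonsing_inv _ hdet, Matrix.one_mulVec]
      conv_lhs => rw [← h2]
      rw [RingHom.map_mulVec, hmat]
      rfl
    exact (congrFun hsol i).symm
  have hli : LinearIndependent O v := by
    rw [Fintype.linearIndependent_iff]
    intro g hg i
    refine IsFractionRing.injective O K (Eq.trans ?_ (map_zero _).symm)
    refine Fintype.linearIndependent_iff.1 b.linearIndependent (fun i => algebraMap O K (g i)) ?_ i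
    have := congrArg (Subtype.val : M → L) hg
    simp only [AddSubmonoidClass.coe_finsetSum, Subalgebra.coe_smul, ZeroMemClass.coe_zero] at this
    refine Eq.trans (Finset.sum_congr rfl fun j _ => ?_) this
    rw [algebraMap_smul]
  have hsp : (⊤ : Submodule O M) ≤ Submodule.span O (Set.range v) := fun z _ => by
    choose c hc using hint z.1 z.2
    have : z = ∑ i, c i • v i := Subtype.ext (by
      rw [AddSubmonoidClass.coe_finsetSum]
      conv_lhs => rw [← b.sum_repr (z : L)]
      refine Finset.sum_congr rfl fun i _ => ?_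
      rw [Subalgebra.coe_smul, ← hc i, algebraMap_smul])
    rw [this]
    exact Submodule.sum_mem _ fun i _ => Submodule.smul_mem _ _ (Submodule.subset_span ⟨i, rfl⟩)
  let bM := Module.Basis.mk hli hsp
  refine ⟨Module.Finite.of_basis bM, ?_⟩
  have h2 : Algebra.discr K b = algebraMap O K (Algebra.discr O bM) :=
    CurveP1Lib.discr_map (algebraMap O K) M.val.toRingHom (fun a => IsScalarTower.algebraMap_apply O K L a) bM b
      (fun i => by rw [Module.Basis.mk_apply]; rfl)
  let bF := bM.reindex (Fintype.equivFin (Module.Free.ChooseBasisIndex A A'))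
  refine (Groth.Agent.S2195.result bF).2 ?_
  have h3 : Algebra.discr O bM = algebraMap A₀ O d := IsFractionRing.injective O K (by
    rw [← h2, ← IsScalarTower.algebraMap_apply, hd])
  rw [Module.Basis.coe_reindex, Algebra.discr_reindex, h3]
  exact IsLocalization.Away.algebraMap_isUnit d

end Groth.Agent.NormEtLib
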