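import Groth.Agent.NormEtLib.Alg
import Groth.Agent.FinIntClosure.Normalization
import Groth.Agent.NormalSch.Basic

/-!
# The normalisation is finite étale near a point with as many geometric points as the degree
-/

set_option autoImplicit false
set_option backward.isDefEq.respectTransparency false
set_option backward.defeqAttrib.useBackward true
set_option linter.style.haveILetI false
set_option linter.unusedSectionVars false
set_option maxHeartbeats 1000000
set_option synthInstance.maxHeartbeats 100000

universe u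

open CategoryTheory CategoryTheory.Limits AlgebraicGeometry TopologicalSpace Opposite

noncomputable section

namespace Groth.Agent.NormEtLib

variable {X : Scheme.{u}} [IsIntegral X] (L : Type u) [Field L] [Algebra X.functionField L]
  (g : Spec (CommRingCat.of L) ⟶ X)
  (hg : g = Spec.map (CommRingCat.ofHom (algebraMap X.functionField L)) ≫ X.fromSpecStalk (genericPoint X))

include hg in
/-- The sections over the preimage of a nonempty open are the field. -/
theorem exists_algEquiv_sections (U : X.Opens) [Nonempty U] :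
    letI := ((algebraMap X.functionField L).comp (X.germToFunctionField U).hom).toAlgebra
    letI := (g.app U).hom.toAlgebra
    Nonempty (L ≃ₐ[Γ(X, U)] Γ(Spec (CommRingCat.of L), g ⁻¹ᵁ U)) := by
  letI := ((algebraMap X.functionField L).comp (X.germToFunctionField U).hom).toAlgebra
  letI := (g.app U).hom.toAlgebra
  refine ⟨AlgEquiv.ofRingEquiv (f := FinIntClosure.fieldEquiv (algebraMap X.functionField L) g hg U) fun a => ?_⟩
  change _ = (g.app U) a
  rw [FinIntClosure.app_eq (algebraMap X.functionField L) g hg U]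
  rfl

variable [QuasiCompact g] [QuasiSeparated g] [FiniteDimensional X.functionField L]

include hg in
theorem exists_finite_etale_nbhd (hX : Pi1.IsNormalScheme X) (Ω : Type u) [Field Ω] [IsAlgClosed Ω]
    (ξ : Spec (CommRingCat.of Ω) ⟶ X)
    (hcard : Nonempty (Fin (Module.finrank X.functionField L) ↪
      {η : Spec (CommRingCat.of Ω) ⟶ g.normalization // η ≫ g.fromNormalization = ξ})) :
    ∃ U : X.Opens, Set.range ξ.base ⊆ (U : Set X) ∧
      Etale (pullback.snd g.fromNormalization U.ι) ∧ IsFinite (pullback.snd g.fromNormalization U.ι) := by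
  classical
  obtain ⟨emb⟩ := hcard
  let pt : Spec (CommRingCat.of Ω) := IsLocalRing.closedPoint Ω
  have hsub : ∀ p : Spec (CommRingCat.of Ω), p = pt := fun p =>
    haveI : Subsingleton (PrimeSpectrum Ω) := inferInstance
    Subsingleton.elim (α := PrimeSpectrum Ω) _ _
  obtain ⟨_, ⟨U, hU, rfl⟩, hxU, -⟩ :=
    X.isBasis_affineOpens.exists_subset_of_mem_open (Set.mem_univ (ξ pt)) isOpen_univ
  haveI : Nonempty U := ⟨⟨_, hxU⟩⟩
  have hξU : Set.range ξ ⊆ Set.range hU.fromSpec := by
    rintro _ ⟨p, rfl⟩
    rw [hU.range_fromSpec, hsub p]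
    exact hxU
  obtain ⟨χ', hχ'⟩ := Spec.map_surjective (IsOpenImmersion.lift hU.fromSpec ξ hξU)
  have hξ : Spec.map χ' ≫ hU.fromSpec = ξ := by rw [hχ', IsOpenImmersion.lift_fac]
  let A₀ := Γ(X, U)
  haveI : IsDomain A₀ := inferInstance
  haveI : IsIntegrallyClosed A₀ := NormalSch.isIntegrallyClosed_section hX U
  haveI : IsFractionRing A₀ X.functionField := functionField_isFractionRing_of_isAffineOpen X U hU
  letI : Algebra A₀ L := ((algebraMap X.functionField L).comp (X.germToFunctionField U).hom).toAlgebra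
  haveI : IsScalarTower A₀ X.functionField L := IsScalarTower.of_algebraMap_eq' rfl
  letI algS : Algebra A₀ Γ(Spec (CommRingCat.of L), g ⁻¹ᵁ U) := (g.app U).hom.toAlgebra
  obtain ⟨e⟩ := exists_algEquiv_sections L g hg U
  let eC := e.mapIntegralClosure
  let C' := CommRingCat.of (integralClosure A₀ Γ(Spec (CommRingCat.of L), g ⁻¹ᵁ U))
  have hη : ∀ j, ∃ ψ' : C' ⟶ CommRingCat.of Ω,
      (emb j).1 = Spec.map ψ' ≫ g.normalizationOpenCover.f ⟨U, hU⟩ ∧
        g.normalizationDiagramMap.app (.op U) ≫ ψ' = χ' := by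
    intro j
    have hr : Set.range (emb j).1 ⊆ Set.range (g.normalizationOpenCover.f ⟨U, hU⟩) := by
      rintro _ ⟨p, rfl⟩
      rw [← Scheme.Hom.coe_opensRange, ← g.fromNormalization_preimage ⟨U, hU⟩]
      show g.fromNormalization ((emb j).1 p) ∈ U
      rw [← Scheme.Hom.comp_apply, (emb j).2, hsub p]
      exact hxU
    obtain ⟨ψ', hψ'⟩ := Spec.map_surjective (IsOpenImmersion.lift (g.normalizationOpenCover.f ⟨U, hU⟩) (emb j).1 hr)
    have h1 : (emb j).1 = Spec.map ψ' ≫ g.normalizationOpenCover.f ⟨U, hU⟩ := by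
      rw [hψ', IsOpenImmersion.lift_fac]
    refine ⟨ψ', h1, Spec.map_injective ?_⟩
    rw [← cancel_mono hU.fromSpec, hξ, ← (emb j).2, h1, Category.assoc, g.ι_fromNormalization ⟨U, hU⟩, Spec.map_comp,
      Category.assoc]
  choose ψ' hψ'1 hψ'2 using hη
  have hψ : ∃ ψ : Fin (Module.finrank X.functionField L) → integralClosure A₀ L →+* Ω,
      Function.Injective ψ ∧ ∀ j a, ψ j (algebraMap A₀ _ a) = χ'.hom a := by
    refine ⟨fun j => (ψ' j).hom.comp eC.toRingEquiv.toRingHom, fun j k h => emb.injective (Subtype.ext ?_),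
      fun j a => ?_⟩
    · rw [hψ'1 j, hψ'1 k]
      congr 2
      refine CommRingCat.hom_ext (RingHom.ext fun c => ?_)
      have := congr($h (eC.symm c))
      change (ψ' j).hom (eC (eC.symm c)) = (ψ' k).hom (eC (eC.symm c)) at this
      rwa [eC.apply_symm_apply] at this
    · show (ψ' j).hom (eC (algebraMap A₀ _ a)) = _
      rw [eC.commutes, ← hψ'2 j]
      rfl
  obtain ⟨d, hd, hkey⟩ := exists_finite_etale_away (K := X.functionField) (L := L) χ'.hom hψ
  let V := X.basicOpen d
  have hV : IsAffineOpen V := hU.basicOpen d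
  have hxV : ξ pt ∈ V := by
    rw [← hξ, Scheme.Hom.comp_apply]
    change (Spec.map χ') pt ∈ hU.fromSpec ⁻¹ᵁ V
    rw [hU.fromSpec_preimage_basicOpen]
    show d ∉ ((Spec.map χ') pt).asIdeal
    intro hmem
    refine hd ?_
    have h0 : χ'.hom d ∈ (pt : PrimeSpectrum Ω).asIdeal := hmem
    by_contra hne
    exact (pt : PrimeSpectrum Ω).isPrime.ne_top (Ideal.eq_top_of_isUnit_mem _ h0 (IsUnit.mk0 _ hne))
  haveI : Nonempty V := ⟨⟨_, hxV⟩⟩
  refine ⟨V, ?_, ?_⟩
  · rintro _ ⟨p, rfl⟩
    rw [hsub p]
    exact hxV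
  let O := Γ(X, V)
  letI : Algebra A₀ O := (X.presheaf.map (homOfLE (X.basicOpen_le d)).op).hom.toAlgebra
  haveI : IsLocalization.Away d O := hU.isLocalization_basicOpen d
  haveI : IsScalarTower A₀ O X.functionField := IsScalarTower.of_algebraMap_eq fun a =>
    (X.presheaf.germ_res_apply (homOfLE (X.basicOpen_le d)) (genericPoint X) (NormalSch.genericPoint_mem V) a).symm
  letI : Algebra O L := ((algebraMap X.functionField L).comp (X.germToFunctionField V).hom).toAlgebra
  haveI : IsScalarTower O X.functionField L := IsScalarTower.of_algebraMap_eq' rfl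
  obtain ⟨hfin, het⟩ := hkey O
  letI algV : Algebra O Γ(Spec (CommRingCat.of L), g ⁻¹ᵁ V) := (g.app V).hom.toAlgebra
  obtain ⟨eV⟩ := exists_algEquiv_sections L g hg V
  let eCV := eV.mapIntegralClosure
  haveI : Module.Finite O (integralClosure O Γ(Spec (CommRingCat.of L), g ⁻¹ᵁ V)) :=
    Module.Finite.equiv eCV.toLinearEquiv
  haveI : Algebra.Etale O (integralClosure O Γ(Spec (CommRingCat.of L), g ⁻¹ᵁ V)) :=
    Algebra.Etale.of_equiv eCV
  let h := Spec.map (g.normalizationDiagramMap.app (.op V)) ≫ hV.isoSpec.inv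
  have H : IsPullback h (g.normalizationOpenCover.f ⟨V, hV⟩) V.ι g.fromNormalization :=
    IsOpenImmersion.isPullback _ _ _ _
      (by rw [Category.assoc, hV.isoSpec_inv_ι]; exact g.ι_fromNormalization ⟨V, hV⟩)
      (by rw [Scheme.Opens.opensRange_ι]; exact g.fromNormalization_preimage ⟨V, hV⟩)
  have e2 : H.flip.isoPullback.hom ≫ pullback.snd g.fromNormalization V.ι = h := H.flip.isoPullback_hom_snd
  constructor
  · rw [← MorphismProperty.cancel_left_of_respectsIso @Etale H.flip.isoPullback.hom, e2,
      MorphismProperty.cancel_right_of_respectsIso @Etale, HasRingHomProperty.Spec_iff (P := @Etale)]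
    change (algebraMap O (integralClosure O Γ(Spec (CommRingCat.of L), g ⁻¹ᵁ V))).Etale
    exact RingHom.etale_algebraMap.2 inferInstance
  · rw [← MorphismProperty.cancel_left_of_respectsIso @IsFinite H.flip.isoPullback.hom, e2,
      MorphismProperty.cancel_right_of_respectsIso @IsFinite, IsFinite.SpecMap_iff]
    change (algebraMap O (integralClosure O Γ(Spec (CommRingCat.of L), g ⁻¹ᵁ V))).Finite
    exact RingHom.finite_algebraMap.2 inferInstance

end Groth.Agent.NormEtLib
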